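import Mathlib.CategoryTheory.CofilteredSystem
import Mathlib.Algebra.Category.Grp.Limits
import Mathlib.CategoryTheory.Limits.HasLimits
import Mathlib.CategoryTheory.Limits.Types.Limits
import Mathlib.Order.Category.Preord

/-! Mittag-Leffler sequences: every element of an eventual range extends to a section. -/

universe u v

open CategoryTheory Opposite Limits

namespace MittagLefflerLib

variable {F : ℕᵒᵖ ⥤ Type u}

lemma map_map_eq {a b c : ℕ} (hab : a ≤ b) (hbc : b ≤ c) (hac : a ≤ c) (x : F.obj (op c)) :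
    F.map (homOfLE hab).op (F.map (homOfLE hbc).op x) = F.map (homOfLE hac).op x := by
  rw [← Functor.map_comp_apply]
  exact congrArg (fun f => F.map f x) (Subsingleton.elim _ _)

lemma map_refl {a : ℕ} (h : a ≤ a) (x : F.obj (op a)) : F.map (homOfLE h).op x = x := by
  rw [show (homOfLE h).op = 𝟙 (op a) from Subsingleton.elim _ _, F.map_id]
  rfl

lemma mem_eventualRange_iff {p : ℕ} {x : F.obj (op p)} :
    x ∈ F.eventualRange (op p) ↔ ∀ k (hk : p ≤ k), ∃ y, F.map (homOfLE hk).op y = x := by
  rw [Functor.mem_eventualRange_iff]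
  refine ⟨fun h k hk => h (homOfLE hk).op, fun h i f => ?_⟩
  obtain ⟨y, hy⟩ := h i.unop (leOfHom f.unop)
  exact ⟨y, by rw [← hy]; exact congrArg (fun g => F.map g y) (Subsingleton.elim _ _)⟩

theorem exists_section (h : F.IsMittagLeffler) {p : ℕ} (x : F.obj (op p))
    (hx : x ∈ F.eventualRange (op p)) : ∃ s : F.sections, s.1 (op p) = x := by
  have step : ∀ n (z : F.eventualRange (op n)), ∃ w : F.eventualRange (op (n + 1)),
      F.map (homOfLE (Nat.le_succ n)).op w.1 = z.1 := fun n z => by
    obtain ⟨y, hy, hz⟩ := h.subset_image_eventualRange F (homOfLE (Nat.le_succ n)).op z.2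
    exact ⟨⟨y, hy⟩, hz⟩
  choose w hw using step
  let z : ∀ n, F.eventualRange (op n) := fun n =>
    Nat.rec (motive := fun n => F.eventualRange (op n))
      ⟨F.map (homOfLE (Nat.zero_le p)).op x, F.eventualRange_mapsTo _ hx⟩
      (fun n z => if hn : n + 1 ≤ p then ⟨F.map (homOfLE hn).op x, F.eventualRange_mapsTo _ hx⟩
        else w n z) n
  have hzsucc : ∀ n, z (n + 1) = if hn : n + 1 ≤ p then
      ⟨F.map (homOfLE hn).op x, F.eventualRange_mapsTo _ hx⟩ else w n (z n) := fun n => rfl
  have hlow : ∀ n (hn : n ≤ p), (z n).1 = F.map (homOfLE hn).op x := by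
    intro n hn
    cases n with
    | zero => rfl
    | succ n => rw [hzsucc, dif_pos hn]
  have hc1 : ∀ n, F.map (homOfLE (Nat.le_succ n)).op (z (n + 1)).1 = (z n).1 := by
    intro n
    by_cases hn : n + 1 ≤ p
    · rw [hlow _ hn, hlow n (by omega), map_map_eq]
    · rw [hzsucc, dif_neg hn]
      exact hw n (z n)
  have hc : ∀ a b (hab : a ≤ b), F.map (homOfLE hab).op (z b).1 = (z a).1 := by
    intro a b hab
    induction b, hab using Nat.le_induction with
    | base => exact map_refl _ _
    | succ b hab ih => rw [← ih, ← hc1 b, map_map_eq hab (Nat.le_succ b)]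
  refine ⟨⟨fun n => (z n.unop).1, fun {i j} f => ?_⟩, ?_⟩
  · dsimp only
    rw [← hc j.unop i.unop (leOfHom f.unop)]
    exact congrArg (fun g => F.map g (z i.unop).1) (Subsingleton.elim f _)
  · exact (hlow p le_rfl).trans (map_refl _ _)

theorem exists_limit_elt {F : ℕᵒᵖ ⥤ AddCommGrpCat.{u}}
    (h : (F ⋙ forget AddCommGrpCat).IsMittagLeffler) {p : ℕ} (x : F.obj (op p))
    (hx : ∀ k (hk : p ≤ k), ∃ y, F.map (homOfLE hk).op y = x) :
    ∃ a, limit.π F (op p) a = x := by
  obtain ⟨s, hs⟩ := exists_section h (p := p) x (mem_eventualRange_iff.2 hx)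
  let e := Types.isLimitEquivSections (isLimitOfPreserves (forget AddCommGrpCat) (limit.isLimit F))
  refine ⟨e.symm s, ?_⟩
  rw [← hs]
  exact Types.isLimitEquivSections_symm_apply (isLimitOfPreserves (forget AddCommGrpCat) (limit.isLimit F)) s (op p)

end MittagLefflerLib
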